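import Groth.Agent.Lib.CurveOm17.Main
import Groth.Agent.Lib.AutCard17.Curve
import Groth.Agent.Lib.ThetaGrp19.Scalar
import Groth.Agent.Lib.VB17.Line
import Groth.Agent.Lib.VB17.Simple

/-!
# Secant divisors of the curve embedded by `K ⊗ N`
-/

set_option autoImplicit false
set_option linter.style.haveILetI false

universe u

open CategoryTheory CategoryTheory.Limits AlgebraicGeometry

namespace Groth.Agent.Secant17

open Groth.Agent.M2 Groth.Agent.CurveCoh17

variable {k : Type u} [Field k] [IsAlgClosed k] {X : Scheme.{u}} [X.Over (Spec (CommRingCat.of k))]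
  [IsIntegral X] [IsProper (X ↘ Spec (CommRingCat.of k))] [Smooth (X ↘ Spec (CommRingCat.of k))]

theorem omega_data (hdim : topologicalKrullDim X = 1) (hg : 1 ≤ Curv2.genus k X) {K : X.Modules}
    (eK : K ≅ Omega.sheaf (X ↘ Spec (CommRingCat.of k))) :
    PicF.IsInvertible K ∧ Curv2.deg k X K 1 = 2 * (Curv2.genus k X : ℤ) - 2 ∧
      ∀ M : X.Modules, PicF.IsInvertible M → Curv2.deg k X M 1 = 2 * (Curv2.genus k X : ℤ) - 2 →
        Curv2.genus k X ≤ Module.finrank k (Coh.HH X M 0) → Nonempty (M ≅ K) := by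
  obtain ⟨hX, h0, hbig⟩ := VB17.setup (k := k) (X := X) hdim
  haveI := hX.like.noetherian
  obtain ⟨lam, hW⟩ := CurveOm17.exists_isDualizing_omega (k := k) hdim
    (Omega12.isUniversal_dOmega (f := X ↘ Spec (CommRingCat.of k)))
  have hd := (hW.invariants hX h0 hbig).2.2
  refine ⟨Twist.isInvertible_of_iso eK.symm hW.inv, (deg_iso eK).trans hd, fun M hM hdM hh => ?_⟩
  have hM1 := (isInvertible_iff_isFinLocFreeOfRank_one M).1 hM
  have hrr := hX.like.rr (isCoh_of_ofRank hM1)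
  rw [h0, hdM] at hrr
  haveI := hX.like.fin _ (isCoh_of_ofRank hM1) 1
  haveI : Nontrivial (Coh.HH X M 1) := Module.nontrivial_of_finrank_pos (R := k) (by omega)
  obtain ⟨μ, hμ⟩ := exists_ne (0 : Module.Dual k (Coh.HH X M 1))
  obtain ⟨φ, hφ⟩ := hW.exists_hom hX h0 hbig hM1 μ
  rcases AutCard17.hom_eq_zero_or_isIso hX hM hW.inv (hdM.trans hd.symm) φ with h | h
  · exfalso
    refine hμ ?_
    rw [hφ, h, VB17.hmap_zero', LinearMap.comp_zero]
  · exact ⟨@asIso _ _ _ _ φ h ≪≫ eK.symm⟩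

/-- A `(deg N)`-secant divisor `D` forces `N ≅ O(D)`. -/
theorem nonempty_iso (hdim : topologicalKrullDim X = 1) (hg : 1 ≤ Curv2.genus k X) {K : X.Modules}
    (eK : K ≅ Omega.sheaf (X ↘ Spec (CommRingCat.of k)))
    {N I : X.Modules} (hN : PicF.IsInvertible N) (hI : PicF.IsInvertible I)
    (hdN : 1 ≤ Curv2.deg k X N 1) (hdI : Curv2.deg k X I 1 = - Curv2.deg k X N 1)
    (hsec : (Module.finrank k (Coh.HH X (CohB1.tensorMod I (CohB1.tensorMod K N)) 0) : ℤ) + (Curv2.deg k X N 1 - 1) =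
      Module.finrank k (Coh.HH X (CohB1.tensorMod K N) 0)) :
    Nonempty (CohB1.tensorMod I N ≅ Coh.structureModule X) := by
  obtain ⟨hK, hdK, key⟩ := omega_data hdim hg eK
  obtain ⟨hX, h0, -⟩ := VB17.setup (k := k) (X := X) hdim
  haveI := hX.like.noetherian
  have hKN := isInvertible_tensor hK hN
  have hKN1 := (isInvertible_iff_isFinLocFreeOfRank_one _).1 hKN
  have hdKN := hX.like.deg_tensor_invertible hK hN
  haveI := hX.like.h1_subsingleton_of_deg (rkOne_of_invertible hX.like.dim hKN) h0 (by omega)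
  have hrr := hX.like.rr (isCoh_of_ofRank hKN1)
  rw [h0, hdKN, Module.finrank_zero_of_subsingleton (M := Coh.HH X (CohB1.tensorMod K N) 1)] at hrr
  obtain ⟨e⟩ := key _ (isInvertible_tensor hI hKN)
    (by rw [hX.like.deg_tensor_invertible hI hKN, hdKN, hdI, hdK]; ring) (by omega)
  haveI := VB17.isEquivalence_tensorR hK
  exact ⟨(tensorR K).preimageIso (tensorAssoc I N K ≪≫ tensorIso (Iso.refl I) (tensorComm N K) ≪≫ e ≪≫
    (tensorLUnit K).symm)⟩

include k in
/-- The section of `N` given by an effective divisor. -/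
theorem nontrivial_h0 {N I : X.Modules} (hN : PicF.IsInvertible N) (ι : I ⟶ Coh.structureModule X) [Mono ι]
    (e : CohB1.tensorMod I N ≅ Coh.structureModule X) : Nontrivial (Coh.HH X N 0) := by
  have _ := k
  haveI : IsNoetherian X := VB17.isNoetherian_of_over (k := k)
  haveI := VB17.mono_tensorMap ι hN
  let i : Coh.structureModule X ⟶ N := e.inv ≫ tensorMap ι (𝟙 N) ≫ (tensorLUnit N).hom
  have hO := PicLoc.isInvertible_structureModule X
  haveI := VB17.nontrivial_of_mono hO hO (tensorLUnit _) i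
  exact (hequiv k (tensorRUnit N) 0).symm.toEquiv.nontrivial

/-- A divisor is determined by its line bundle when `h⁰ ≤ 1`. -/
theorem exists_iso_of_h0_le_one (hdim : topologicalKrullDim X = 1) {N I I' : X.Modules} (hN : PicF.IsInvertible N)
    (h1 : Module.finrank k (Coh.HH X N 0) ≤ 1)
    (ι : I ⟶ Coh.structureModule X) (ι' : I' ⟶ Coh.structureModule X) [Mono ι] [Mono ι']
    (e : CohB1.tensorMod I N ≅ Coh.structureModule X) (e' : CohB1.tensorMod I' N ≅ Coh.structureModule X) :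
    ∃ φ : I' ≅ I, φ.hom ≫ ι = ι' := by
  obtain ⟨hX, -, -⟩ := VB17.setup (k := k) (X := X) hdim
  haveI := hX.like.noetherian
  haveI := hX.like.fin _ (isCoh_of_ofRank ((isInvertible_iff_isFinLocFreeOfRank_one N).1 hN)) 0
  haveI := VB17.mono_tensorMap ι hN
  haveI := VB17.mono_tensorMap ι' hN
  let O := Coh.structureModule X
  let s : O ⟶ N := e.inv ≫ tensorMap ι (𝟙 N) ≫ (tensorLUnit N).hom
  let s' : O ⟶ N := e'.inv ≫ tensorMap ι' (𝟙 N) ≫ (tensorLUnit N).hom
  have hne : ∀ t : O ⟶ N, Mono t → (hh0 N).symm (t.app ⊤ (M1.one ⊤)) ≠ 0 := fun t ht h => by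
    have h' := congrArg (hh0 N) h
    rw [AddEquiv.apply_symm_apply, map_zero] at h'
    have h1' : (M1.one (X := X) ⊤ : Γ(O, ⊤)) = 0 := M1.app_injective t ⊤ (h'.trans (map_zero _).symm)
    exact one_ne_zero (α := Γ(X, ⊤)) h1'
  have hpos : 0 < Module.finrank k (Coh.HH X N 0) :=
    Module.finrank_pos_iff.2 ⟨_, 0, hne s inferInstance⟩
  obtain ⟨a, ha⟩ := (finrank_eq_one_iff_of_nonzero' _ (hne s inferInstance)).1 (le_antisymm h1 hpos)
    ((hh0 N).symm (s'.app ⊤ (M1.one ⊤)))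
  have ha0 : a ≠ 0 := fun h => hne s' inferInstance (by rw [← ha, h, zero_smul])
  let c : Γ(X, ⊤) := Coh.toGlobal (X ↘ Spec (CommRingCat.of k)) a
  have hc : IsUnit c := (IsUnit.mk0 a ha0).map (Coh.toGlobal (X ↘ Spec (CommRingCat.of k)))
  have hsec : s'.app ⊤ (M1.one ⊤) = c • s.app ⊤ (M1.one ⊤) := by
    have h := congrArg (hh0 N) ha
    have h2 := CurveCoh17.hh0_smul (M := N) (Coh.toGlobal (X ↘ Spec (CommRingCat.of k)) a)
      ((hh0 N).symm (s.app ⊤ (M1.one ⊤)))
    exact ((h.trans ((hh0 N).apply_symm_apply _)).symm.trans (h2.trans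
      (congrArg (fun z => (show Γ(X, ⊤) from Coh.toGlobal (X ↘ Spec (CommRingCat.of k)) a) • z)
        ((hh0 N).apply_symm_apply _))))
  let u : O ≅ O :=
    { hom := ThetaGrp19.smulHom O c
      inv := ThetaGrp19.smulHom O (hc.unit⁻¹ : Γ(X, ⊤)ˣ)
      hom_inv_id := by rw [ThetaGrp19.smulHom_comp, hc.mul_val_inv, ThetaGrp19.smulHom_one]
      inv_hom_id := by rw [ThetaGrp19.smulHom_comp, hc.val_inv_mul, ThetaGrp19.smulHom_one] }
  have hs : s' = u.hom ≫ s := M1.unit_hom_ext (by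
    show _ = s.app ⊤ ((ThetaGrp19.smulHom O c).app ⊤ (M1.one ⊤))
    rw [ThetaGrp19.smulHom_app, Scheme.Modules.Hom.app_smul, hsec]
    exact congrArg (fun z : Γ(X, ⊤) => z • s.app ⊤ (M1.one ⊤)) (M1.ores_id le_rfl c).symm)
  haveI := VB17.isEquivalence_tensorR hN
  refine ⟨(tensorR N).preimageIso (e' ≪≫ u ≪≫ e.symm), (tensorR N).map_injective ?_⟩
  rw [Functor.map_comp, Functor.preimageIso_hom, Functor.map_preimage]
  change ((e'.hom ≫ u.hom ≫ e.inv) ≫ tensorMap ι (𝟙 N)) = tensorMap ι' (𝟙 N)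
  rw [← cancel_mono (tensorLUnit N).hom, ← cancel_epi e'.inv]
  simp only [Category.assoc, Iso.inv_hom_id_assoc]
  exact hs.symm

end Groth.Agent.Secant17
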